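import Cfsg.Agent.Lib.Len8.Struct
import Cfsg.Agent.Lib.Len8.Transfer
import Cfsg.Agent.Lib.FT.GW.Cover
import Cfsg.Agent.S3224

/-!
# The configuration `S₄ × C`: generalities, and the cases `C = 1`, `C` a four-group
-/

set_option autoImplicit false

namespace Cfsg.Lib.Len8
open Subgroup Cfsg.Lib Cfsg.Lib.FT Cfsg.Lib.Bender
open scoped commutatorElement

variable {G : Type*} [Group G]

/-- the centralizer is a 2-group -/
def Tc (z : G) : Prop := IsPGroup 2 C1[z]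

theorem Tc.conj {z : G} (h : Tc z) (g : G) : Tc (g * z * g⁻¹) := by
  rw [Tc, GW.c1_conj]
  exact h.map _

theorem tc_conj {z g : G} : Tc (g * z * g⁻¹) ↔ Tc z :=
  ⟨fun h => by simpa [mul_assoc] using h.conj g⁻¹, fun h => h.conj g⟩

theorem norm_of_two [Finite G] {A B : Subgroup G} (hle : A ≤ B) (h : A.relIndex B = 2) : B ≤ N[A] :=
  fun x hx => mem_norm_of_conj_le (by
    rintro _ ⟨y, hy, rfl⟩
    by_cases e : x ∈ A
    · exact A.mul_mem (A.mul_mem e hy) (A.inv_mem e)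
    · exact mul_mem_of_two h (B.mul_mem hx (hle hy)) (B.inv_mem hx) (by rwa [A.mul_mem_cancel_right hy])
        (by rwa [inv_mem_iff]))

theorem c1_of {g x : G} (h : g * x * g⁻¹ = x) : g ∈ C1[x] := GW.mem_c1.2 (mul_inv_eq_iff_eq_mul.1 h)

theorem of_c1 {g x : G} (h : g ∈ C1[x]) : g * x * g⁻¹ = x := mul_inv_eq_iff_eq_mul.2 (GW.mem_c1.1 h)

theorem cj (g x y : G) : g * (x * y) * g⁻¹ = g * x * g⁻¹ * (g * y * g⁻¹) := by group

namespace S4C
variable {R Q C : Subgroup G} {c s t ρ : G} (h : S4C R Q C c s t ρ)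
include h

theorem cc : c * c = 1 := h.cV.2.2
theorem ss : s * s = 1 := h.sV.2.2
theorem c1 : c ≠ 1 := fun e => h.cC (e ▸ one_mem _)
theorem sc : s * c = c * s := h.cV.2.1 s h.sV.1
theorem st : t * s ≠ s * t := fun e => h.c1 (by simpa [e] using h.ts.symm)
theorem tQ : t ∉ Q := fun e => h.st (h.sV.2.1 t e)
theorem sR : s ∈ R := h.QR h.sV.1
theorem cR : c ∈ R := h.QR h.cV.1

theorem le_of {K : Subgroup G} (hQ : Q ≤ K) {x : G} (hx : x ∈ R) (hx' : x ∉ Q) (hK : x ∈ K) : R ≤ K :=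
  fun y hy => by
    by_cases e : y ∈ Q
    · exact hQ e
    · exact (K.mul_mem_cancel_right hK).1 (hQ (mul_mem_of_two h.i2 hy hx e hx'))

theorem le_of' {K : Subgroup G} (hC : C ≤ K) (hc : c ∈ K) (hs : s ∈ K) : Q ≤ K := fun q hq => by
  rcases h.mem q hq with e | e | e | e
  · exact hC e
  · exact (K.mul_mem_cancel_right hc).1 (hC e)
  · exact (K.mul_mem_cancel_right hs).1 (hC e)
  · exact (K.mul_mem_cancel_right hs).1 ((K.mul_mem_cancel_right hc).1 (hC e))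

theorem Rc : R ≤ C1[c] := h.le_of (GW.le_c1_iff.2 h.cV.2.1) h.tR h.tQ (c1_of h.tc)

theorem RC (hC : C ≤ C[C]) : R ≤ C[C] :=
  h.le_of (h.le_of' hC (centralizer_le h.CQ h.cV.2.1) (centralizer_le h.CQ h.sV.2.1)) h.tR h.tQ h.tC

theorem QQ (hC : C ≤ C[C]) : Q ≤ C[Q] :=
  le_centralizer_iff.1 (h.le_of' (le_centralizer_iff.1 (h.QR.trans (h.RC hC))) h.cV.2.1 h.sV.2.1)

theorem conj_s {x : G} (hx : x ∈ R) (hx' : x ∉ Q) : x * s * x⁻¹ = s * c := by
  have e := h.sV.2.1 _ (mul_mem_of_two h.i2 (R.inv_mem h.tR) hx (by simpa using h.tQ) hx')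
  calc _ = t * (t⁻¹ * x * s) * x⁻¹ := by group
    _ = _ := by rw [e, ← h.ts]; group

theorem mem_Q {x : G} (hx : x ∈ R) (e : x * s = s * x) : x ∈ Q :=
  by_contra fun e' => h.c1 (by simpa [e] using (h.conj_s hx e').symm)

theorem eq_c {x w : G} (hx : x ∈ R) (e : x * s * x⁻¹ = s * w) (hw : w ≠ 1) : w = c := by
  rw [h.conj_s hx fun e' => hw (by simpa [h.sV.2.1 x e'] using e.symm)] at e
  exact (mul_left_cancel e).symm

theorem mem_C {w : G} (hw : w ∈ Q) (e : w ∈ C1[t]) : w ∈ C ∨ w * c ∈ C := by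
  have k : C ≤ C1[t] := GW.le_c1_iff.2 h.tC
  have k' := h.Rc h.tR
  rcases h.mem w hw with e' | e' | e' | e'
  · exact Or.inl e'
  · exact Or.inr e'
  · exact absurd (GW.mem_c1.1 ((mul_mem_cancel_left e).1 (k e'))).symm h.st
  · exact absurd (GW.mem_c1.1 ((mul_mem_cancel_left e).1
      ((mul_mem_cancel_right (GW.mem_c1_symm k')).1 (k e')))).symm h.st

theorem not_tc [Finite G] {w : G} (hw : w ∈ C) : ¬ Tc w := fun e => by
  obtain ⟨k, hk⟩ := e ⟨ρ, GW.mem_c1.2 (h.ρC w hw).symm⟩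
  have h3 : ρ ^ 3 ∈ C1[c] := c1_of (by
    calc _ = ρ * (ρ * (ρ * c * ρ⁻¹) * ρ⁻¹) * ρ⁻¹ := by rw [pow_succ, sq]; group
      _ = _ := by rw [h.ρc, h.ρs, cj, h.ρc, h.ρs, h.sc, mul_assoc, h.ss, mul_one])
  obtain ⟨m, hm⟩ := exists_pow_eq_self_of_coprime (x := ρ) (n := 3) (Nat.Coprime.coprime_dvd_right
    (orderOf_dvd_of_pow_eq_one (congrArg Subtype.val hk)) (Nat.Coprime.pow_right k (by norm_num)))
  have := (of_c1 (hm ▸ pow_mem h3 m)).symm.trans h.ρc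
  exact h.st (GW.mem_c1.1 (this ▸ h.Rc h.tR))

end S4C

theorem exists_two [Finite G] {R S : Subgroup G} (hS : IsPGroup 2 S) (h : R < S) :
    ∃ P, R ≤ P ∧ P ≤ S ∧ Nat.card P = 2 * Nat.card R := by
  obtain ⟨P, h1, h2, h3, -⟩ := pg_exists_invariant_step (A := ⊥) hS.to_inf_left .of_bot bot_le
    (pg_lt_inf_normalizer hS h) inf_le_right bot_le
  exact ⟨P, h1.le, h2.trans inf_le_left, h3⟩

theorem le_of_two {A B K : Subgroup G} (h : A.relIndex B = 2) (hA : A ≤ K) {x : G} (hx : x ∈ B)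
    (hx' : x ∉ A) (hK : x ∈ K) : B ≤ K := fun y hy => by
  by_cases e : y ∈ A
  · exact hA e
  · exact (K.mul_mem_cancel_right hK).1 (hA (mul_mem_of_two h hy hx e hx'))

/-- the global situation -/
structure Ctx (R Q C : Subgroup G) (c s t ρ : G) : Prop extends S4C R Q C c s t ρ where
  perf : commutator G = ⊤
  pg : IsPGroup 2 R
  cQ : C[Q] ≤ Q
  mx : ∀ S, IsSylowIn 2 S ⊤ → ∀ z : G, z ≠ 1 → S ≤ C1[z] → C1[z] ≤ S
  syl : ∀ S : Subgroup G, IsSylowIn 2 S ⊤ → Nat.card S = 128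
  nm : ∀ P : Subgroup G, IsPGroup 2 P → R ≤ P → ∀ x ∈ P, x ∈ N[om Q] → x ∈ R

namespace Ctx
variable [Finite G] {R Q C : Subgroup G} {c s t ρ : G} (h : Ctx R Q C c s t ρ)
include h

theorem cardR : Nat.card R = 8 * Nat.card C := by
  rw [← relIndex_mul_card h.QR, h.i2, h.card]; ring

theorem not_four (hC : C ≤ C[C]) (h2 : ∀ f ∈ C, f * f = 1) (h4 : Nat.card C = 4) {u v : G} (hu : u ∈ C)
    (hv : v ∈ C) (u1 : u ≠ 1) (v1 : v ≠ 1) (uv : u * v ≠ 1) : False := by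
  obtain ⟨S, hS, RS⟩ := exists_isSylowIn_ge h.pg le_top
  have cS := h.syl S hS
  have cR := h.cardR
  have cQ := h.card
  obtain ⟨P, RP, PS, cP⟩ := exists_two hS.isPGroup (RS.lt_of_ne fun e => by rw [e] at cR; omega)
  have i1 := relIndex_two_of_card RP cP
  have i2 := relIndex_two_of_card PS (by omega)
  obtain ⟨a, ha, ha'⟩ := SetLike.not_le_iff_exists.1 fun e : P ≤ R => by have := card_le_of_le e; omega
  obtain ⟨b, hb, hb'⟩ := SetLike.not_le_iff_exists.1 fun e : S ≤ P => by have := card_le_of_le e; omega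
  have QQ := h.QQ hC
  have hV : om Q = Q := (om_le Q).antisymm
    (h.le_of' (fun f hf => ⟨h.CQ hf, QQ (h.CQ hf), h2 f hf⟩) h.cV h.sV)
  have k1 : ∀ y ∈ R, y ∉ Q → y * y = 1 → y ∈ C1[t] := fun y hy hy' e => by
    have := (hV.ge (mul_mem_of_two h.i2 hy h.tR hy' h.tQ)).2.2
    rw [GW.mem_c1, ← inv_eq_of_mul_eq_one_right this, mul_inv_rev, inv_eq_of_mul_eq_one_right e,
      inv_eq_of_mul_eq_one_right h.tt]
  have cm : ∀ {x y y' : G}, y ∈ x •ᶜ Q → y' ∈ x •ᶜ Q → y ∈ C1[y'] ∧ y * y = 1 := by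
    rintro x _ _ ⟨y, hy, rfl⟩ ⟨y', hy', rfl⟩
    exact ⟨GW.mem_c1.2 (by rw [← map_mul, ← map_mul, QQ hy' y hy]), by
      rw [← map_mul, (hV.ge hy).2.2, map_one]⟩
  have k2 : ∀ x ∈ S, x ∉ R → x •ᶜ Q ≤ R → x •ᶜ Q = R ⊓ C1[t] := fun x hx hx' e => by
    obtain ⟨y, hy, hy'⟩ := SetLike.not_le_iff_exists.1 fun e' : x •ᶜ Q ≤ Q =>
      hx' (h.nm S hS.isPGroup RS x hx (hV.symm ▸ mem_norm_of_conj_le e'))
    refine eq_of_le_of_card_ge (fun w hw => ⟨e hw, ?_⟩) ?_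
    · by_cases e' : w ∈ Q
      · exact GW.mem_c1_symm ((mul_mem_cancel_left (cm hy hw).1).1
          (GW.mem_c1.2 (QQ e' _ (mul_mem_of_two h.i2 (e hy) h.tR hy' h.tQ))))
      · exact k1 w (e hw) e' (cm hw hw).2
    · have := pg_mul_card_le_of_lt h.pg (inf_lt_left.2 fun e' : R ≤ C1[t] =>
        h.st (GW.mem_c1.1 (e' h.sR)).symm)
      rw [card_conj]; omega
  have k3 : ∀ x ∈ P, x •ᶜ Q ≤ R := fun x hx =>
    conj_eq_iff_mem_normalizer.2 (norm_of_two RP i1 hx) ▸ map_mono h.QR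
  have bP : b •ᶜ Q ≤ P := conj_eq_iff_mem_normalizer.2 (norm_of_two PS i2 hb) ▸ map_mono (h.QR.trans RP)
  obtain ⟨x, hx, hx'⟩ := SetLike.not_le_iff_exists.1 fun e : b •ᶜ Q ≤ R => hb'
    ((P.mul_mem_cancel_left (P.inv_mem ha)).1 (RP (h.nm S hS.isPGroup RS _ (S.mul_mem (S.inv_mem (PS ha)) hb)
      (by rw [hV, ← conj_eq_iff_mem_normalizer, ← conj_conj, k2 b hb (fun e => hb' (RP e)) e,
        ← k2 a (PS ha) ha' (k3 a ha), conj_conj, inv_mul_cancel, conj_eq_of_mem (one_mem _)]))))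
  have k4 := k2 x (PS (bP hx)) hx' (k3 x (bP hx))
  have k5 : (b •ᶜ Q) ⊓ R = Q ⊓ C1[t] := by
    refine eq_of_le_of_card_ge (fun y hy => ?_) ?_
    · have e := of_c1 (cm hx hy.1).1
      have e' : y ∈ Q := by_contra fun e' => e' (conj_mem_conj_iff.1
        (e.symm ▸ k4.ge ⟨hy.2, k1 y hy.2 e' (cm hy.1 hy.1).2⟩ : x * y * x⁻¹ ∈ x •ᶜ Q))
      exact ⟨e', (k4.le (e ▸ conj_mem_conj e' x)).2⟩
    · have e := card_le_mul_card_inf bP RP cP.le
      have := pg_mul_card_le_of_lt (h.pg.to_le h.QR) (inf_lt_left.2 fun e' : Q ≤ C1[t] =>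
        h.st (GW.mem_c1.1 (e' h.sV.1)).symm)
      rw [card_conj] at e; omega
  have k6 : ∀ w ∈ Q ⊓ C1[t], P ≤ C1[w] := fun w hw =>
    le_of_two i1 (h.le_of (GW.le_c1_iff.2 (QQ hw.1)) h.tR h.tQ (GW.mem_c1_symm hw.2)) (bP hx) hx'
      (cm hx (k5.ge hw).1).1
  have CE : C ≤ Q ⊓ C1[t] := le_inf h.CQ (GW.le_c1_iff.2 h.tC)
  have k7 : ∀ f ∈ C, b * f * b⁻¹ ∈ Q ⊓ C1[t] := fun f hf => by
    have e : P ≤ C1[b * f * b⁻¹] := by
      rw [GW.c1_conj, ← conj_eq_iff_mem_normalizer.2 (norm_of_two PS i2 hb)]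
      exact map_mono (k6 f (CE hf))
    exact ⟨h.cQ (GW.le_c1_iff.1 ((h.QR.trans RP).trans e)), GW.mem_c1_symm (e (RP h.tR))⟩
  have k8 : ∀ f ∈ C, b * f * b⁻¹ = f → f = 1 := fun f hf e => by_contra fun e' =>
    h.not_tc hf (hS.isPGroup.to_le (h.mx S hS f e' (le_of_two i2 (k6 f (CE hf)) hb hb' (c1_of e))))
  have k9 : ∀ f ∈ C, b * f * b⁻¹ ∈ C → f = 1 := fun f hf e => k8 f hf (by
    have := k8 _ (C.mul_mem hf e) (by
      rw [cj, hC e f hf, mul_right_inj, ← of_c1 (k6 f (CE hf) (mul_mem_of_two i2 hb hb hb' hb'))]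
      nth_rw 1 [of_c1 (k6 f (CE hf) (mul_mem_of_two i2 hb hb hb' hb'))]
      group)
    rw [← inv_eq_of_mul_eq_one_right this, inv_eq_of_mul_eq_one_right (h2 f hf)])
  have k10 : ∀ f ∈ C, f ≠ 1 → b * f * b⁻¹ * c ∈ C := fun f hf e =>
    (h.mem_C (k7 f hf).1 (k7 f hf).2).resolve_left fun e' => e (k9 f hf e')
  refine uv (k9 _ (C.mul_mem hu hv) ?_)
  have := C.mul_mem (k10 u hu u1) (k10 v hv v1)
  rwa [h.cV.2.1 _ (k7 v hv).1, mul_assoc, ← mul_assoc c, h.cc, one_mul, ← cj] at this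

theorem exists_central {S : Subgroup G} (hS : IsSylowIn 2 S ⊤) (RS : R ≤ S) :
    ∃ z, S ≤ C1[z] ∧ z * z = 1 ∧ Tc z ∧ z * c ∈ C := by
  obtain ⟨z, -, h1, h2⟩ := pg_exists_fixed_of_order_p hS.isPGroup hS.isPGroup le_normalizer
    fun e => h.c1 (e.le (RS h.cR))
  have h3 := isInv_iff_orderOf.2 h1
  have h4 := GW.le_c1_iff.2 h2
  have h5 : Tc z := hS.isPGroup.to_le (h.mx S hS z h3.ne_one h4)
  exact ⟨z, h4, h3.mul_self, h5, (h.mem_C (h.cQ (centralizer_le (h.QR.trans RS) h2))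
    (GW.mem_c1_symm (h4 (RS h.tR)))).resolve_left fun e => h.not_tc e h5⟩

theorem dih2 (hC : C = ⊥) : GW.Dih2 G := by
  obtain ⟨S, hS, RS⟩ := exists_isSylowIn_ge h.pg le_top
  obtain ⟨z, Sz, zz, -, zc⟩ := h.exists_central hS RS
  obtain rfl : z = c := by
    rw [hC, mem_bot, mul_eq_one_iff_eq_inv] at zc
    exact zc.trans (inv_eq_of_mul_eq_one_right h.cc)
  have sS := RS h.sR
  have s1 : s ≠ 1 := fun e => h.st (by simp [e])
  have hQ : C1[(⟨s, sS⟩ : S)] = Q.subgroupOf S := by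
    ext x
    rw [GW.mem_c1, Subtype.ext_iff]
    exact ⟨fun e => h.cQ (GW.le_c1_iff.1 (h.le_of' (hC ▸ bot_le)
      (GW.mem_c1_symm (Sz x.2)) (GW.mem_c1.2 e.symm))), fun e => h.sV.2.1 _ e⟩
  obtain ⟨m, A, hm, -, ha, hi, hx, hinv⟩ := Cfsg.Agent.S3224.aux hS.isPGroup ⟨s, sS⟩
    (orderOf_eq_prime (Subtype.ext (by simpa [sq] using h.ss)) fun e => s1 (congrArg Subtype.val e))
    (by rw [hQ, Nat.card_congr (subgroupOfEquivOfLe (h.QR.trans RS)).toEquiv, h.card, hC, card_bot])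
    (by rw [h.syl S hS]; norm_num)
  have key : ∀ g : S, (g : G) ∈ zpowers (A : G) ↔ g ∈ zpowers A := fun g =>
    ⟨fun ⟨k, hk⟩ => ⟨k, Subtype.ext hk⟩, fun ⟨k, hk⟩ => ⟨k, congrArg Subtype.val hk⟩⟩
  have two : ∀ x ∈ S, ∀ y ∈ S, x ∉ zpowers (A : G) → y ∉ zpowers (A : G) → x * y ∈ zpowers (A : G) :=
    fun x hx y hy e e' => (key (⟨x, hx⟩ * ⟨y, hy⟩)).2 ((mul_mem_iff_of_index_two hi).2
      (iff_of_false (mt (key _).2 e) (mt (key _).2 e')))
  replace hx : s ∉ zpowers (A : G) := mt (key ⟨s, sS⟩).1 hx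
  replace hinv : s * (A * A) * s⁻¹ = ((A : G) * A)⁻¹ := congrArg Subtype.val hinv
  rw [← orderOf_coe] at ha
  obtain ⟨A, AS⟩ := A
  simp only at ha two hx hinv
  have si := inv_eq_of_mul_eq_one_right h.ss
  have form : ∀ x ∈ S, x ∉ zpowers A → ∃ k : ℤ, x = s * A ^ k := fun x h1 h2 => by
    obtain ⟨k, hk⟩ := two s sS x h1 hx h2
    exact ⟨k, by simp only [hk, ← mul_assoc, h.ss, one_mul]⟩
  by_cases e : s * A * s⁻¹ = A⁻¹
  · refine GW.dih2_of_gen (c := A) hS ⟨AS, fun x h1 h2 => ?_, two⟩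
    obtain ⟨k, rfl⟩ := form x h1 h2
    calc _ = s * A ^ k * s⁻¹ * A ^ k := by rw [si]; group
      _ = _ := by rw [inverts_zpow e, inv_mul_cancel]
  exfalso
  set w := s * A * s⁻¹ * A with hw
  have sA : s * A * s⁻¹ ∈ zpowers A := two _ (S.mul_mem sS AS) _ (S.inv_mem sS)
    (by rwa [mul_mem_cancel_right (mem_zpowers A)]) (by rwa [inv_mem_iff])
  have wA : w ∈ zpowers A := mul_mem sA (mem_zpowers A)
  have cA : ∀ x ∈ zpowers A, x * A = A * x := by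
    rintro _ ⟨k, rfl⟩
    exact (Commute.zpow_self A k).eq
  have ww : w * w = 1 := by
    calc _ = s * A * s⁻¹ * (A * (s * A * s⁻¹)) * A := by rw [hw]; group
      _ = s * (A * A) * s⁻¹ * (A * A) := by rw [← cA _ sA]; group
      _ = 1 := by rw [hinv, inv_mul_cancel]
  have w1 : w ≠ 1 := fun e' => e (eq_inv_of_mul_eq_one_left e')
  have odd : ∀ k : ℤ, A ^ (2 * k + 1) * A ^ (2 * k + 1) ≠ 1 := fun k e => by
    rw [← zpow_add, ← orderOf_dvd_iff_zpow_eq_one, ha] at e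
    have := (show (2 : ℤ) ^ 2 ∣ 2 ^ (m + 1) from pow_dvd_pow 2 (by omega)).trans (by exact_mod_cast e)
    omega
  let D := zpowers (A * A) ⊔ zpowers s
  have ev : ∀ k : ℤ, A ^ (2 * k) ∈ D := fun k => mem_sup_left ⟨k, by simp only [← sq, ← zpow_natCast, ← zpow_mul]; rfl⟩
  have sD : s ∈ D := mem_sup_right (mem_zpowers s)
  have inv : ∀ x ∈ S, x * x = 1 → x ∈ D := fun x h1 h2 => by
    by_cases e' : x ∈ zpowers A
    · obtain ⟨k, rfl⟩ := e'
      obtain ⟨j, rfl | rfl⟩ := k.even_or_odd'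
      · exact ev j
      · exact absurd h2 (odd j)
    obtain ⟨k, rfl⟩ := form x h1 e'
    obtain ⟨j, rfl | rfl⟩ := k.even_or_odd'
    · exact D.mul_mem sD (ev j)
    refine absurd ?_ w1
    have e1 : s * A ^ (2 * j) * s⁻¹ = (A ^ (2 * j))⁻¹ := by
      simpa only [zpow_mul, zpow_two] using inverts_zpow hinv j
    obtain ⟨l, hl⟩ := mem_zpowers_iff.1 sA
    calc w = (A ^ (2 * j))⁻¹ * A ^ l * A ^ (2 * j + 1) := by rw [hw, ← hl]; group
      _ = s * A ^ (2 * j + 1) * s⁻¹ * A ^ (2 * j + 1) := by rw [← e1, hl]; group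
      _ = 1 := by rw [← h2, si, mul_assoc]
  have hc : ∀ K : Subgroup G, s ∈ K → A ∈ K → S ≤ K := fun K h1 h2 x hx => by
    by_cases e' : x ∈ zpowers A
    · exact zpowers_le.2 h2 e'
    · obtain ⟨k, rfl⟩ := form x hx e'
      exact K.mul_mem h1 (K.zpow_mem h2 k)
  have c1 : ⁅s, A⁆ ∈ D := by
    have := D.mul_mem (inv w (zpowers_le.2 AS wA) ww) (ev (-1))
    rwa [show w * A ^ (2 * (-1 : ℤ)) = ⁅s, A⁆ by rw [hw, commutatorElement_def]; group] at this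
  have c2 : ⁅S, S⁆ ≤ D := (commutator_mono (hc _ (subset_closure (by simp)) (subset_closure (by simp)))
    (hc _ (subset_closure (by simp)) (subset_closure (by simp)))).trans
    (GW.commutator_closure_le (s := {s, A}) (by
      rintro x (e' | e') <;> rw [e']
      · exact le_normalizer sD
      refine mem_norm_of_conj_le ?_
      rw [Subgroup.map_sup, MonoidHom.map_zpowers, MonoidHom.map_zpowers]
      refine sup_le (zpowers_le.2 (by simpa [zpow_two, sq, mul_assoc] using ev 1)) (zpowers_le.2 ?_)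
      simpa [commutatorElement_def, mul_assoc] using D.mul_mem (D.inv_mem c1) sD) (by
      rintro x (e1 | e1) y (e2 | e2) <;> rw [e1, e2]
      · simp
      · exact c1
      · rwa [← inv_mem_iff, commutatorElement_inv]
      · simp))
  have uw : ∀ x ∈ zpowers A, IsInv x → x = w := fun x h1 h2 =>
    GW.eq_of_mem_zpowers_of_mul_self h1 wA h2.ne_one w1 h2.mul_self ww
  have Sw : S ≤ C1[w] := hc _ (c1_of (uw _ (by
    obtain ⟨k, hk⟩ := mem_zpowers_iff.1 wA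
    rw [← hk, ← conj_zpow]
    exact zpow_mem sA k) (IsInv.conj ⟨w1, ww⟩ s))) (GW.mem_c1.2 (cA w wA).symm)
  have sq : ∀ x ∈ S, zpowers (x * x) ≤ zpowers A := fun x hx => zpowers_le.2 (by
    by_cases e' : x ∈ zpowers A
    exacts [mul_mem e' e', two x hx x hx e' e'])
  obtain ⟨T, rfl⟩ := hS.exists_sylow_top
  have := sylow_le_of_fusion ((pResidual_eq_top_iff_sylow_le T).2 (h.perf ▸ le_top)) T D (fun x hx g hg => by
    by_cases e' : x * x = 1
    · exact D.mul_mem (D.inv_mem (inv x hx e')) (inv _ hg (by rw [← cj, e']; simp))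
    obtain ⟨i, hi, hi'⟩ := exists_isInv_zpowers (x := x * x) fun ho => e' (by
      obtain ⟨k, hk⟩ := T.isPGroup' ⟨x * x, mul_mem hx hx⟩
      exact orderOf_eq_one_iff.1 (Nat.Coprime.eq_one_of_dvd (Nat.Coprime.pow_right k
        (Nat.coprime_two_right.2 ho)) (orderOf_dvd_of_pow_eq_one (congrArg Subtype.val hk))))
    have e1 := uw (g * i * g⁻¹) (sq _ hg (by
      obtain ⟨k, rfl⟩ := hi
      exact ⟨k, by simp only [← cj, conj_zpow]⟩)) (hi'.conj g)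
    rw [uw i (sq x hx hi) hi'] at e1
    simpa [commutatorElement_def, mul_assoc] using
      c2 (commutator_mem_commutator (inv_mem hx) (h.mx _ hS w w1 Sw (c1_of e1)))) AS
  obtain ⟨_, ⟨k, rfl⟩, y, hy, e'⟩ := (mem_sup_of_le_normalizer (zpowers_le.2
    (mem_normalizer_zpowers_of_inverts hinv))).1 this
  rcases (GW.mem_zpowers_two h.ss).1 hy with rfl | rfl
  · refine odd (k - 1) ?_
    rw [show A ^ (2 * (k - 1) + 1) = (A * A) ^ k * 1 * A⁻¹ by rw [← zpow_two]; group, e']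
    simp
  · exact hx ((mul_mem_cancel_left (zpow_mem (mul_mem (mem_zpowers A) (mem_zpowers A)) k)).1
      (e'.symm ▸ mem_zpowers A))

end Ctx

end Cfsg.Lib.Len8
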