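import Cfsg.Agent.Lib.Len8.Ctx

/-!
# The configuration `S₄ × C` with `C` cyclic of order 2 or 4
-/

set_option autoImplicit false

namespace Cfsg.Lib.Len8
open Subgroup Cfsg.Lib Cfsg.Lib.FT Cfsg.Lib.Bender
open scoped commutatorElement

variable {G : Type*} [Group G]

theorem dih_inv {s s' : G} (hs : s * s = 1) (hs' : s' * s' = 1) {x : G} (hx : x ∈ zpowers (s * s')) :
    s * x * s⁻¹ = x⁻¹ :=
  inverts_of_mem_zpowers (by rw [← mul_assoc, hs, one_mul, mul_inv_rev, inv_eq_of_mul_eq_one_right hs']) hx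

theorem mem_dih {s s' : G} (hs : s * s = 1) (hs' : s' * s' = 1) {g : G} (hg : g ∈ closure {s, s'}) :
    g ∈ zpowers (s * s') ∨ ∃ x ∈ zpowers (s * s'), g = s * x := by
  have si := inv_eq_of_mul_eq_one_right hs
  induction hg using closure_induction with
  | mem x hx =>
    rcases hx with e | e <;> rw [e]
    · exact Or.inr ⟨1, one_mem _, (mul_one _).symm⟩
    · exact Or.inr ⟨_, mem_zpowers _, by rw [← mul_assoc, hs, one_mul]⟩
  | one => exact Or.inl (one_mem _)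
  | mul x y _ _ h1 h2 =>
    rcases h1 with h1 | ⟨x, h1, rfl⟩ <;> rcases h2 with h2 | ⟨y, h2, rfl⟩
    · exact Or.inl (mul_mem h1 h2)
    · exact Or.inr ⟨_, mul_mem (inv_mem h1) h2, by
        rw [← dih_inv hs hs' h1, si, ← mul_assoc, ← mul_assoc, ← mul_assoc, ← mul_assoc, hs, one_mul]⟩
    · exact Or.inr ⟨_, mul_mem h1 h2, mul_assoc _ _ _⟩
    · exact Or.inl (by
        have := mul_mem (inv_mem h1) h2
        rwa [← dih_inv hs hs' h1, si, mul_assoc] at this)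
  | inv x _ h1 =>
    rcases h1 with h1 | ⟨x, h1, rfl⟩
    · exact Or.inl (inv_mem h1)
    · exact Or.inr ⟨x, h1, by rw [mul_inv_rev, ← dih_inv hs hs' h1, si, mul_assoc, hs, mul_one]⟩

theorem dih_conj {s s' : G} (hs : s * s = 1) (hs' : s' * s' = 1) {x : G} (hx : x ∈ zpowers (s * s')) :
    x * s * x⁻¹ = s * (x * x)⁻¹ := by
  nth_rw 1 [← inv_inv x, ← dih_inv hs hs' (inv_mem hx)]
  group

theorem dih_refl {s s' : G} (hs : s * s = 1) (hs' : s' * s' = 1) {x : G} (hx : x ∈ zpowers (s * s')) :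
    ∃ k ∈ zpowers (s * s'), s * x = k * s * k⁻¹ ∨ s * x = k * s' * k⁻¹ := by
  obtain ⟨k, rfl⟩ := hx
  have := dih_conj hs hs' (x := (s * s') ^ (-(k / 2))) ⟨_, rfl⟩
  refine ⟨(s * s') ^ (-(k / 2)), ⟨_, rfl⟩, ?_⟩
  have e : s' = s * (s * s') := by rw [← mul_assoc, hs, one_mul]
  generalize s * s' = x at *
  obtain ⟨j, rfl | rfl⟩ := k.even_or_odd'
  · refine Or.inl ?_
    rw [this, show 2 * j / 2 = j by omega]; group
  · refine Or.inr ?_
    rw [show (2 * j + 1) / 2 = j by omega] at this ⊢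
    calc _ = s * (x ^ (-j) * x ^ (-j))⁻¹ * x := by group
      _ = _ := by rw [← this, e]; group

theorem exists_four {x : G} {n : ℕ} (h : x ^ 2 ^ n = 1) (hx : x * x ≠ 1) :
    ∃ y ∈ zpowers x, IsInv (y * y) := by
  induction n generalizing x with
  | zero => exact absurd (by simp [show x = 1 by simpa using h]) hx
  | succ n ih =>
    by_cases e : x * x * (x * x) = 1
    · exact ⟨x, mem_zpowers x, hx, e⟩
    · obtain ⟨y, hy, hy'⟩ := ih (x := x * x) (by rw [← sq, ← pow_mul, ← pow_succ', h]) e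
      exact ⟨y, zpowers_le.2 (mul_mem (mem_zpowers x) (mem_zpowers x)) hy, hy'⟩

/-- the situation with `C` cyclic -/
structure Cy (R Q C P S : Subgroup G) (c s t ρ u b : G) : Prop extends Ctx R Q C c s t ρ where
  hC : C ≤ C[C]
  uC : u ∈ C
  hu : IsInv u
  h1 : ∀ f ∈ C, f * f = 1 → f = 1 ∨ f = u
  h2 : ∀ f ∈ C, f * f = 1 ∨ (f * f = u ∧ P ≤ N[R])
  hP : IsSylowIn 2 P C1[u]
  hS : IsSylowIn 2 S ⊤
  RP : R ≤ P
  PS : P ≤ S
  bS : b ∈ S
  bN : b ∈ N[P]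
  bP : b ∉ P

namespace Cy
variable [Finite G] {R Q C P S : Subgroup G} {c s t ρ u b : G} (h : Cy R Q C P S c s t ρ u b)
include h

theorem SP {x : G} (hx : x ∈ S) (hx' : x ∈ C1[u]) : x ∈ P :=
  (h.hP.maximal (S ⊓ C1[u]) h.hS.isPGroup.to_inf_left inf_le_right (le_inf h.PS h.hP.le)).le ⟨hx, hx'⟩

theorem tu : ¬ Tc u := h.not_tc h.uC

theorem cases {w : G} (hw : w ∈ Q) (ww : w * w = 1) (e : w ∈ C1[t]) :
    w = 1 ∨ w = u ∨ w = c ∨ w = c * u := by
  rcases h.mem_C hw e with e' | e'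
  · exact (h.h1 w e' ww).imp_right Or.inl
  have k := h.cV.2.1 w hw
  refine Or.inr (Or.inr ((h.h1 _ e' ?_).imp (fun e => ?_) fun e => ?_))
  · rw [mul_assoc, ← mul_assoc c, ← k, mul_assoc, h.cc, mul_one, ww]
  · rw [eq_inv_of_mul_eq_one_left e, inv_eq_of_mul_eq_one_right h.cc]
  · rw [← e, k, ← mul_assoc, h.cc, one_mul]

theorem omP {w : G} (hw : w ∈ om P) : w ∈ om Q :=
  have := centralizer_le (h.QR.trans h.RP) hw.2.1
  ⟨h.cQ this, this, hw.2.2⟩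

theorem casesP {w : G} (hw : w ∈ om P) : w = 1 ∨ w = u ∨ w = c ∨ w = c * u :=
  h.cases (h.omP hw).1 hw.2.2 (GW.mem_c1.2 (hw.2.1 t (h.RP h.tR)).symm)

theorem uP : u ∈ om P := ⟨h.RP (h.QR (h.CQ h.uC)), GW.le_c1_iff.1 h.hP.le, h.hu.mul_self⟩

theorem exists_z : ∃ z, S ≤ C1[z] ∧ Tc z ∧ (z = c ∨ z = c * u) := by
  obtain ⟨z, h1, h2, h3, h4⟩ := h.exists_central h.hS (h.RP.trans h.PS)
  refine ⟨z, h1, h3, ?_⟩
  rcases h.cases (h.cQ (GW.le_c1_iff.1 ((h.QR.trans (h.RP.trans h.PS)).trans h1))) h2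
    (GW.mem_c1_symm (h1 (h.PS (h.RP h.tR)))) with e | e | e
  · exact absurd (by simpa [e] using h4) h.cC
  · exact absurd (e ▸ h3) h.tu
  · exact e

theorem cP : c ∈ om P := by
  obtain ⟨z, h1, -, e⟩ := h.exists_z
  refine ⟨h.RP h.cR, ?_, h.cc⟩
  have := GW.le_c1_iff.1 (h.PS.trans h1)
  rcases e with rfl | rfl
  · exact this
  · exact (mul_mem_cancel_right h.uP.2.1).1 this

theorem mem_R {x : G} (hx : x ∈ S) (hN : x ∈ N[P]) (e : x * s * x⁻¹ ∈ om Q) : x ∈ R := by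
  refine h.nm S h.hS.isPGroup (h.RP.trans h.PS) x hx (mem_norm_of_conj_le ?_)
  have key : ∀ w ∈ om Q, w ∈ C1[t] → x * w * x⁻¹ ∈ om Q := fun w hw e' =>
    h.omP (conj_mem_of_mem_normalizer (om_norm P hN) (by
      rcases h.cases hw.1 hw.2.2 e' with e | e | e | e <;> rw [e]
      exacts [one_mem _, h.uP, h.cP, mul_mem h.cP h.uP]))
  rintro _ ⟨w, hw, rfl⟩
  have k : C ≤ C1[t] := GW.le_c1_iff.2 h.tC
  have k' := GW.mem_c1_symm (h.Rc h.tR)
  have k2 : w * s ∈ C1[t] → x * w * x⁻¹ ∈ om Q := fun e' =>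
    (mul_mem_cancel_right e).1 (cj x w s ▸ key _ (mul_mem hw h.sV) e')
  rcases h.mem w hw.1 with e' | e' | e' | e'
  · exact key w hw (k e')
  · exact key w hw ((mul_mem_cancel_right k').1 (k e'))
  · exact k2 (k e')
  · exact k2 ((mul_mem_cancel_right k').1 (k e'))

theorem mem_V {x : G} (hx : x ∈ P) (e : x * s = s * x) (xx : x * x = 1) : x ∈ om Q :=
  have := h.mem_Q (h.mem_R (h.PS hx) (le_normalizer hx) (by rw [e, mul_inv_cancel_right]; exact h.sV)) e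
  ⟨this, h.QQ h.hC this, xx⟩

theorem s'P : b * s * b⁻¹ ∈ P := conj_mem_of_mem_normalizer h.bN (h.RP h.sR)

theorem s's' : b * s * b⁻¹ * (b * s * b⁻¹) = 1 := by rw [← cj, h.ss, mul_one, mul_inv_cancel]

theorem xP : zpowers (s * (b * s * b⁻¹)) ≤ P := zpowers_le.2 (mul_mem (h.RP h.sR) h.s'P)

theorem xx : s * (b * s * b⁻¹) * (s * (b * s * b⁻¹)) ≠ 1 := fun e =>
  h.bP (h.RP (h.mem_R h.bS h.bN (h.mem_V h.s'P (by
    rw [← inv_eq_of_mul_eq_one_right e, mul_inv_rev, inv_eq_of_mul_eq_one_right h.ss,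
      inv_eq_of_mul_eq_one_right h.s's']) h.s's')))

theorem exists_y : ∃ y ∈ zpowers (s * (b * s * b⁻¹)), y * y = c ∧ y ∈ R ∧ y ∉ Q ∧ b * c * b⁻¹ = c := by
  obtain ⟨n, hn⟩ := h.hP.isPGroup ⟨_, h.xP (mem_zpowers _)⟩
  obtain ⟨y, hy, hy'⟩ := exists_four (congrArg Subtype.val hn) h.xx
  have e1 := dih_conj h.ss h.s's' hy
  rw [hy'.inv_eq] at e1
  have e2 := dih_inv h.ss h.s's' (mul_mem hy hy)
  rw [hy'.inv_eq, mul_inv_eq_iff_eq_mul] at e2
  have yR := h.mem_R (h.PS (h.xP hy)) (le_normalizer (h.xP hy))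
    (e1 ▸ mul_mem h.sV (h.mem_V (h.xP (mul_mem hy hy)) e2.symm hy'.mul_self))
  have e3 := h.eq_c yR e1 hy'.ne_one
  refine ⟨y, hy, e3, yR, fun e => h.c1 (by simpa [h.sV.2.1 y e, e3] using e1.symm), ?_⟩
  have e4 := dih_conj h.s's' h.ss (x := y) (by
    rwa [← zpowers_inv, mul_inv_rev, inv_eq_of_mul_eq_one_right h.ss, inv_eq_of_mul_eq_one_right h.s's'])
  rw [hy'.inv_eq, e3] at e4
  have e5 : b⁻¹ * y * b * s * (b⁻¹ * y * b)⁻¹ = s * (b⁻¹ * c * b) := by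
    calc _ = b⁻¹ * (y * (b * s * b⁻¹) * y⁻¹) * b := by group
      _ = _ := by rw [e4]; group
  have e6 := conj_mem_of_mem_normalizer' h.bN (h.xP hy)
  have e7 := h.eq_c (h.mem_R (h.PS e6) (le_normalizer e6) (e5 ▸ mul_mem h.sV
    (h.omP (conj_mem_of_mem_normalizer' (om_norm P h.bN) h.cP)))) e5 (IsInv.conj' ⟨h.c1, h.cc⟩ b).ne_one
  nth_rw 1 [← e7]
  group

theorem Sc : S ≤ C1[c] ∧ Tc c := by
  obtain ⟨z, h1, h2, rfl | rfl⟩ := h.exists_z
  · exact ⟨h1, h2⟩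
  obtain ⟨-, -, -, -, -, e⟩ := h.exists_y
  have := of_c1 (h1 h.bS)
  rw [cj, e, mul_right_inj] at this
  exact absurd (h.SP h.bS (c1_of this)) h.bP

theorem conj_u {x : G} (hx : x ∈ S) (hN : x ∈ N[P]) (hx' : x ∉ P) : x * u * x⁻¹ = c * u := by
  rcases h.casesP (conj_mem_of_mem_normalizer (om_norm P hN) h.uP) with e | e | e | e
  · exact absurd e (h.hu.conj x).ne_one
  · exact absurd (h.SP hx (c1_of e)) hx'
  · exact absurd (tc_conj.1 (e ▸ h.Sc.2)) h.tu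
  · exact e

theorem tcu : ¬ Tc (c * u) := fun e => h.tu (tc_conj.1 (h.conj_u h.bS h.bN h.bP ▸ e))

theorem ts' : Tc s := h.ρc ▸ h.Sc.2.conj ρ

theorem tsu {w : G} (hw : w = u ∨ w = c * u) : ¬ Tc (s * w) := by
  have e : ρ * u * ρ⁻¹ = u := mul_inv_eq_iff_eq_mul.2 (h.ρC u h.uC).symm
  have e1 : ¬ Tc (s * u) := by
    rw [← h.ρc, ← e, ← cj, tc_conj]; exact h.tcu
  rcases hw with rfl | rfl
  · exact e1
  · rwa [← mul_assoc, ← h.ρs, ← e, ← cj, tc_conj]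

theorem xD : zpowers (s * (b * s * b⁻¹)) ≤ closure {s, b * s * b⁻¹} :=
  zpowers_le.2 (mul_mem (subset_closure (by simp)) (subset_closure (by simp)))

theorem DP : closure {s, b * s * b⁻¹} ≤ P :=
  (closure_le _).2 (Set.pair_subset (h.RP h.sR) h.s'P)

theorem cD : c ∈ closure {s, b * s * b⁻¹} := by
  obtain ⟨y, hy, e, -⟩ := h.exists_y
  exact e ▸ h.xD (mul_mem hy hy)

theorem conj_s' {f : G} (hf : f ∈ C) : f * (b * s * b⁻¹) * f⁻¹ = b * s * b⁻¹ ∨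
    f * (b * s * b⁻¹) * f⁻¹ = b * s * b⁻¹ * c := by
  rcases h.h2 f hf with e | ⟨e, hN⟩
  · refine Or.inl (mul_inv_eq_iff_eq_mul.2 ?_)
    rcases h.h1 f hf e with e | e <;> rw [e]
    · simp
    · exact (h.uP.2.1 _ h.s'P).symm
  have hs' := h.s'P
  have ss := h.s's'
  have bc := of_c1 (h.Sc.1 h.bS)
  have bu := h.conj_u h.bS h.bN h.bP
  have nt : ∀ w, w = u ∨ w = c * u → ¬ Tc (b * s * b⁻¹ * w) := by
    rintro w (e | e) <;> rw [e]
    · rw [show u = b * (c * u) * b⁻¹ by rw [cj, bc, bu, ← mul_assoc, h.cc, one_mul], ← cj, tc_conj]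
      exact h.tsu (Or.inr rfl)
    · rw [← bu, ← cj, tc_conj]
      exact h.tsu (Or.inl rfl)
  have T : Tc (f * (b * s * b⁻¹) * f⁻¹) := (h.ts'.conj b).conj f
  generalize b * s * b⁻¹ = s' at *
  have fR : f ∈ C[R] := le_centralizer_iff.1 (h.RC h.hC) hf
  have f'R : s' * f * s'⁻¹ ∈ C[R] :=
    conj_mem_of_mem_normalizer (normalizer_le_normalizer_centralizer _ (hN hs')) fR
  have wR := mul_mem f'R (inv_mem fR)
  have e1 : f * s' * f⁻¹ = s' * (s' * f * s'⁻¹ * f⁻¹) := by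
    rw [inv_eq_of_mul_eq_one_right ss, ← mul_assoc, ← mul_assoc, ← mul_assoc, ss, one_mul]
  rw [e1] at T ⊢
  rcases h.cases (h.cQ (centralizer_le h.QR wR)) (by
    have e2 := f'R _ (inv_mem (h.QR (h.CQ hf)))
    calc _ = s' * f * s'⁻¹ * (f⁻¹ * (s' * f * s'⁻¹)) * f⁻¹ := by group
      _ = s' * (f * f) * s'⁻¹ * (f * f)⁻¹ := by rw [e2]; group
      _ = 1 := by rw [e, of_c1 (h.hP.le hs'), mul_inv_cancel]) (GW.mem_c1.2 (wR t h.tR).symm) with
    e2 | e2 | e2 | e2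
  · exact Or.inl (by rw [e2, mul_one])
  · exact absurd T (nt _ (Or.inl e2))
  · exact Or.inr (by rw [e2])
  · exact absurd T (nt _ (Or.inr e2))

theorem CD : C ≤ N[closure {s, b * s * b⁻¹}] := fun f hf => mem_norm_of_conj_le (by
  rw [MonoidHom.map_closure, closure_le]
  have k : b * s * b⁻¹ ∈ closure {s, b * s * b⁻¹} := subset_closure (Or.inr rfl)
  rintro _ ⟨x, e | e, rfl⟩ <;> rw [e]
  · exact (congrArg (· ∈ _) (mul_inv_eq_iff_eq_mul.2 (h.sV.2.1 f (h.CQ hf)))).mpr (subset_closure (Or.inl rfl))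
  · rcases h.conj_s' hf with e | e
    · exact (congrArg (· ∈ _) e).mpr k
    · exact (congrArg (· ∈ _) e).mpr (mul_mem k h.cD))

theorem invD {d : G} (hd : d ∈ closure {s, b * s * b⁻¹}) (dd : d * d = 1) : d = 1 ∨ d = c ∨
    ∃ k, (k ∈ closure {s, b * s * b⁻¹} ∨ k * b⁻¹ ∈ closure {s, b * s * b⁻¹}) ∧ d = k * s * k⁻¹ := by
  rcases mem_dih h.ss h.s's' hd with e | ⟨x, hx, rfl⟩
  · obtain ⟨y, hy, e', -⟩ := h.exists_y
    exact or_iff_not_imp_left.2 fun d1 => Or.inl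
      (GW.eq_of_mem_zpowers_of_mul_self e (e' ▸ mul_mem hy hy) d1 h.c1 dd h.cc)
  obtain ⟨k, hk, e | e⟩ := dih_refl h.ss h.s's' hx
  · exact Or.inr (Or.inr ⟨k, Or.inl (h.xD hk), e⟩)
  · exact Or.inr (Or.inr ⟨k * b, Or.inr (by simpa using h.xD hk), by rw [e]; group⟩)

theorem uD : u ∉ closure {s, b * s * b⁻¹} := fun e => by
  rcases h.invD e h.hu.mul_self with e | e | ⟨k, -, e⟩
  · exact h.hu.ne_one e
  · exact h.tu (e ▸ h.Sc.2)
  · exact h.tu (e ▸ h.ts'.conj k)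

theorem norm_k {k : G} (hk : k ∈ closure {s, b * s * b⁻¹} ∨ k * b⁻¹ ∈ closure {s, b * s * b⁻¹}) :
    k ∈ S ⊓ N[P] := by
  have : P ≤ S ⊓ N[P] := le_inf h.PS le_normalizer
  rcases hk with e | e
  · exact this (h.DP e)
  · exact (mul_mem_cancel_right (inv_mem (show b ∈ S ⊓ N[P] from ⟨h.bS, h.bN⟩))).1 (this (h.DP e))

theorem invK {w : G} (hw : w ∈ closure {s, b * s * b⁻¹} ⊔ C) (ww : w * w = 1) : w ∈ om P ∨
    ∃ k, (k ∈ closure {s, b * s * b⁻¹} ∨ k * b⁻¹ ∈ closure {s, b * s * b⁻¹}) ∧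
      ∃ v ∈ om P, k⁻¹ * w * k = s * v := by
  obtain ⟨d, hd, f, hf, rfl⟩ := (mem_sup_of_le_normalizer h.CD).1 hw
  have ff : f * f = 1 := (h.h2 f hf).resolve_right fun e => h.uD (by
    have := inv_mem (mul_mem hd (conj_mem_of_mem_normalizer (h.CD hf) hd))
    rwa [inv_eq_of_mul_eq_one_right (show d * (f * d * f⁻¹) * (f * f) = 1 by rw [← ww]; group), e.1] at this)
  have fP : f ∈ om P := by
    rcases h.h1 f hf ff with e | e <;> rw [e]
    exacts [one_mem _, h.uP]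
  rw [mul_assoc, ← mul_assoc f, ← fP.2.1 d (h.DP hd), mul_assoc, ff, mul_one] at ww
  rcases h.invD hd ww with e | e | ⟨k, hk, e⟩
  · exact Or.inl (by simpa [e] using fP)
  · exact Or.inl (e ▸ mul_mem h.cP fP)
  · exact Or.inr ⟨k, hk, _, conj_mem_of_mem_normalizer' (om_norm P (h.norm_k hk).2) fP, by rw [e]; group⟩

theorem PK : P ≤ closure {s, b * s * b⁻¹} ⊔ C := by
  have KP : closure {s, b * s * b⁻¹} ⊔ C ≤ P := sup_le h.DP (h.CQ.trans (h.QR.trans h.RP))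
  have sK : s ∈ closure {s, b * s * b⁻¹} ⊔ C := mem_sup_left (subset_closure (Or.inl rfl))
  have RK : R ≤ closure {s, b * s * b⁻¹} ⊔ C := by
    obtain ⟨y, hy, -, e, e', -⟩ := h.exists_y
    exact h.le_of (h.le_of' le_sup_right (mem_sup_left h.cD) sK) e e' (mem_sup_left (h.xD hy))
  by_contra e
  obtain ⟨x, hx, hx'⟩ := SetLike.exists_of_lt (pg_lt_inf_normalizer h.hP.isPGroup (lt_of_le_not_ge KP e))
  rcases h.invK (conj_mem_of_mem_normalizer hx.2 sK) (by rw [← cj, h.ss]; simp) with e1 | ⟨k, hk, v, hv, e1⟩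
  · have := conj_mem_of_mem_normalizer' (om_norm P (le_normalizer hx.1)) e1
    exact h.st (by simpa [mul_assoc] using this.2.1 t (h.RP h.tR))
  have hk' := h.norm_k hk
  have := h.mem_R (mul_mem (inv_mem hk'.1) (h.PS hx.1)) (mul_mem (inv_mem hk'.2) (le_normalizer hx.1)) (by
    rw [show k⁻¹ * x * s * (k⁻¹ * x)⁻¹ = s * v by rw [← e1]; group]
    exact mul_mem h.sV (h.omP hv))
  rcases hk with hk | hk
  · exact hx' ((mul_mem_cancel_left (inv_mem (mem_sup_left hk))).1 (RK this))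
  · exact h.bP (by simpa using mul_mem (inv_mem (h.DP hk)) (mul_mem hx.1 (inv_mem (h.RP this))))

theorem eq_c' {w y : G} (hw : w ∈ P) (ww : w * w = 1) (hy : y ∈ S ⊓ N[P]) (hy' : y ∉ P) (e : y ∈ C1[w]) :
    w = 1 ∨ w = c := by
  have yu := h.conj_u hy.1 hy.2 hy'
  rcases h.invK (h.PK hw) ww with e1 | ⟨k, hk, v, hv, e1⟩
  · rcases h.casesP e1 with e2 | e2 | e2 | e2
    · exact Or.inl e2
    · exact absurd (h.SP hy.1 (e2 ▸ e)) hy'
    · exact Or.inr e2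
    · have := of_c1 e
      rw [e2, cj, of_c1 (h.Sc.1 hy.1), mul_right_inj] at this
      exact absurd (h.SP hy.1 (c1_of this)) hy'
  have hk' := h.norm_k hk
  have e2 := mul_mem (mul_mem (inv_mem hk') hy) hk'
  have := h.mem_R e2.1 e2.2 ((mul_mem_cancel_right (h.omP
    (conj_mem_of_mem_normalizer (om_norm P e2.2) hv))).1 (by
      rw [← cj, ← e1, show k⁻¹ * y * k * (k⁻¹ * w * k) * (k⁻¹ * y * k)⁻¹ = k⁻¹ * (y * w * y⁻¹) * k by group,
        of_c1 e, e1]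
      exact mul_mem h.sV (h.omP hv)))
  exact absurd (by simpa [mul_assoc] using conj_mem_of_mem_normalizer hk'.2 (h.RP this)) hy'

theorem mul_P {x y : G} (hx : x ∈ S ⊓ N[P]) (hy : y ∈ S ⊓ N[P]) (hx' : x ∉ P) (hy' : y ∉ P) : x * y ∈ P :=
  h.SP (mul_mem hx.1 hy.1) (c1_of (by
    calc _ = x * (y * u * y⁻¹) * x⁻¹ := by group
      _ = _ := by rw [h.conj_u hy.1 hy.2 hy', cj, h.conj_u hx.1 hx.2 hx', of_c1 (h.Sc.1 hx.1),
        ← mul_assoc, h.cc, one_mul]))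

theorem extremal {g : G} (hg : g •ᶜ P ≤ S ⊓ N[P]) : g * u * g⁻¹ = u ∨ g * u * g⁻¹ = c * u := by
  have hc : g •ᶜ P ≤ C1[g * u * g⁻¹] := GW.c1_conj g u ▸ map_mono h.hP.le
  have hi := h.hu.conj g
  have nc : g * u * g⁻¹ ≠ c := fun e => h.tu (tc_conj.1 (e ▸ h.Sc.2))
  by_cases e : g •ᶜ P ≤ P
  · rcases h.casesP (conj_mem_of_mem_normalizer (om_norm P (mem_norm_of_conj_le e)) h.uP) with
      e | e | e | e
    exacts [absurd e hi.ne_one, Or.inl e, absurd e nc, Or.inr e]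
  obtain ⟨y, hy, hy'⟩ := SetLike.not_le_iff_exists.1 e
  have uN := hg (conj_mem_conj h.uP.1 g)
  have uP : g * u * g⁻¹ ∉ P := fun e => (h.eq_c' e hi.mul_self (hg hy) hy' (hc hy)).elim hi.ne_one nc
  have key : ∀ v ∈ om Q, v ∉ C → ∃ f ∈ C, g * (v * f) * g⁻¹ = c := fun v hv hv' => by
    have k : ∀ f ∈ C, f * f = 1 → g * (v * f) * g⁻¹ ∈ P → ∃ f ∈ C, g * (v * f) * g⁻¹ = c :=
      fun f hf ff e => ⟨f, hf, (h.eq_c' e (by
        rw [← cj, mul_assoc v, ← mul_assoc f, hv.2.1 f (h.CQ hf), mul_assoc v, ff, mul_one, hv.2.2]; simp) uN uP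
        (GW.mem_c1_symm (hc (conj_mem_conj (h.RP (h.QR (mul_mem hv.1 (h.CQ hf)))) g)))).resolve_left
          fun e' => hv' ((mul_mem_cancel_right hf).1 (conj_eq_one_iff.1 e' ▸ one_mem _))⟩
    by_cases e : g * v * g⁻¹ ∈ P
    · exact k 1 (one_mem _) (one_mul _) (by rwa [mul_one])
    · exact k u h.uC h.hu.mul_self (cj g v u ▸ h.mul_P (hg (conj_mem_conj (h.RP (h.QR hv.1)) g)) uN e uP)
  have sC : ∀ f ∈ C, s * f ∉ C1[t] := fun f hf e => h.st (GW.mem_c1.1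
    ((mul_mem_cancel_right (GW.le_c1_iff.2 h.tC hf)).1 e)).symm
  obtain ⟨f, hf, e1⟩ := key c h.cV h.cC
  obtain ⟨f', hf', e2⟩ := key s h.sV fun e => sC 1 (one_mem _) (by simpa using GW.le_c1_iff.2 h.tC e)
  replace e1 := e1.trans e2.symm
  rw [mul_left_inj, mul_right_inj] at e1
  exact absurd (e1 ▸ mul_mem (GW.mem_c1_symm (h.Rc h.tR)) (GW.le_c1_iff.2 h.tC hf)) (sC f' hf')

theorem SN : S ≤ N[P] := by
  by_contra e
  obtain ⟨x, hx, hx'⟩ := SetLike.exists_of_lt (pg_lt_inf_normalizer h.hS.isPGroup (inf_lt_left.2 e))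
  refine hx' ⟨hx.1, ?_⟩
  rcases h.extremal (conj_eq_iff_mem_normalizer.2 hx.2 ▸ map_mono (le_inf h.PS le_normalizer)) with e | e
  · exact le_normalizer (h.SP hx.1 (c1_of e))
  · refine (mul_mem_cancel_left (inv_mem h.bN)).1 (le_normalizer (h.SP (mul_mem (inv_mem h.bS) hx.1) (c1_of ?_)))
    calc _ = b⁻¹ * (x * u * x⁻¹) * b := by group
      _ = _ := by rw [e, ← h.conj_u h.bS h.bN h.bP]; group

theorem PD : P ≤ N[closure {s, b * s * b⁻¹}] := h.PK.trans (sup_le le_normalizer h.CD)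

theorem bb : b * b ∈ P := h.mul_P ⟨h.bS, h.bN⟩ ⟨h.bS, h.bN⟩ h.bP h.bP

theorem bD : b ∈ N[closure {s, b * s * b⁻¹}] := mem_norm_of_conj_le (by
  rw [MonoidHom.map_closure, closure_le]
  rintro _ ⟨x, e | e, rfl⟩ <;> rw [e]
  · exact subset_closure (Or.inr rfl)
  · simpa [mul_assoc] using conj_mem_of_mem_normalizer (h.PD h.bb) (subset_closure (Or.inl rfl)))

theorem comm_b {e : G} (he : e ∈ C) : ⁅b, e⁆ ∈ closure {s, b * s * b⁻¹} := by
  have bu := h.conj_u h.bS h.bN h.bP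
  have uu := h.hu.mul_self
  rcases h.h2 e he with ee | ⟨ee, -⟩
  · rcases h.h1 e he ee with e1 | e1 <;> rw [e1]
    · simp
    · rw [commutatorElement_def, bu, mul_inv_cancel_right]; exact h.cD
  have CP := h.CQ.trans (h.QR.trans h.RP)
  have e'P := conj_mem_of_mem_normalizer h.bN (CP he)
  have e'e' : b * e * b⁻¹ * (b * e * b⁻¹) = c * u := by rw [← cj, ee, bu]
  have es := of_c1 (GW.mem_c1.2 (h.sV.2.1 e (h.CQ he)))
  have Pc := h.PS.trans h.Sc.1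
  have es' := (h.conj_s' he).resolve_left fun e1 => by
    have e2 : P ≤ C1[e] := h.PK.trans (sup_le ((closure_le _).2 (Set.pair_subset
      (GW.mem_c1_symm (c1_of es)) (GW.mem_c1_symm (c1_of e1)))) (GW.le_c1_iff.2 (h.hC he)))
    replace e2 : P ≤ C1[b * e * b⁻¹] := by
      rw [GW.c1_conj, ← conj_eq_iff_mem_normalizer.2 h.bN]; exact map_mono e2
    refine h.cC ((mul_mem_cancel_right h.uC).1 (e'e' ▸ ?_))
    rcases h.mem_C (h.cQ (GW.le_c1_iff.1 ((h.QR.trans h.RP).trans e2))) (GW.mem_c1_symm (e2 (h.RP h.tR)))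
      with e3 | e3
    · exact mul_mem e3 e3
    · have := mul_mem e3 e3
      rwa [mul_assoc, ← mul_assoc c, ← GW.mem_c1.1 (Pc e'P), mul_assoc _ c, h.cc, mul_one] at this
  obtain ⟨d, hd, f, hf, e1⟩ := (mem_sup_of_le_normalizer h.CD).1 (h.PK e'P)
  have ff : f * f = u := ((h.h2 f hf).resolve_left fun ff => h.uD (by
    have := mul_mem hd (conj_mem_of_mem_normalizer (h.CD hf) hd)
    rwa [show d * (f * d * f⁻¹) = d * f * (d * f) * (f * f)⁻¹ by group, e1, e'e', ff, inv_one, mul_one,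
      mul_mem_cancel_left h.cD] at this)).1
  rcases h.h1 _ (mul_mem (inv_mem he) hf) (by
    calc _ = e⁻¹ * (f * e⁻¹) * f := by group
      _ = (e * e)⁻¹ * (f * f) := by rw [h.hC (inv_mem he) f hf]; group
      _ = 1 := by rw [ee, ff, inv_mul_cancel]) with e2 | e2
  · rwa [commutatorElement_def, ← e1, ← inv_mul_eq_one.1 e2, mul_inv_cancel_right]
  exfalso
  replace e2 := inv_mul_eq_iff_eq_mul.1 e2
  subst e2
  obtain ⟨d', hd', f', hf', e3⟩ := (mem_sup_of_le_normalizer h.CD).1 (h.PK h.bb)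
  have ss := h.ss
  have ss' := h.s's'
  have hxx := h.xx
  have xP := h.xP
  have cs := h.sc
  have bs' : b * (b * s * b⁻¹) * b⁻¹ = d' * s * d'⁻¹ := by
    calc _ = d' * f' * s * (d' * f')⁻¹ := by rw [e3]; group
      _ = d' * (f' * s * f'⁻¹) * d'⁻¹ := by group
      _ = _ := by rw [of_c1 (GW.mem_c1.2 (h.sV.2.1 f' (h.CQ hf')))]
  have be' : b * (b * e * b⁻¹) * b⁻¹ = d' * e * d'⁻¹ := by
    calc _ = d' * f' * e * (d' * f')⁻¹ := by rw [e3]; group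
      _ = d' * (f' * e * f'⁻¹) * d'⁻¹ := by group
      _ = _ := by rw [h.hC he f' hf', mul_inv_cancel_right]
  have e's' : b * e * b⁻¹ * (b * s * b⁻¹) * (b * e * b⁻¹)⁻¹ = b * s * b⁻¹ := by
    nth_rw 2 [← es]; group
  have xs : b * s * b⁻¹ * s = (s * (b * s * b⁻¹))⁻¹ := by
    rw [mul_inv_rev, inv_eq_of_mul_eq_one_right ss, inv_eq_of_mul_eq_one_right ss']
  have bx := cj b s (b * s * b⁻¹)
  rw [bs'] at bx
  have ex := cj e s (b * s * b⁻¹)
  rw [es, es', ← mul_assoc s _ c] at ex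
  have md := fun {g : G} => mem_dih ss ss' (g := g)
  have dc := fun {g : G} => dih_conj ss ss' (x := g)
  have dc' := fun {g : G} (hg : g ∈ zpowers (s * (b * s * b⁻¹))) => dih_conj ss' ss (x := g)
    (by rwa [xs, zpowers_inv])
  have di := fun {g : G} => dih_inv ss ss' (x := g)
  have s'P := h.s'P
  have dP := h.DP hd
  generalize b * s * b⁻¹ = s' at *
  generalize hx : s * s' = x at *
  have xc : Commute x c := GW.mem_c1.1 (Pc (xP (mem_zpowers x)))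
  have ec : Commute e c := GW.mem_c1.1 (Pc (CP he))
  have exk : ∀ k : ℤ, e * x ^ k * e⁻¹ = x ^ k * c ^ k := fun k => by rw [← conj_zpow, ex, xc.mul_zpow]
  have c2 : ∀ k : ℤ, c ^ (2 * k) = 1 := fun k => by rw [zpow_mul, zpow_two, h.cc, one_zpow]
  have xe : ∀ k : ℤ, x ^ k * e * (x ^ k)⁻¹ = e * c ^ k := fun k => by
    have := exk (-k)
    calc _ = x ^ k * (e * x ^ (-k) * e⁻¹) * e := by group
      _ = c ^ (2 * -k) * c ^ k * e := by rw [this]; group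
      _ = _ := by rw [c2, one_mul, (ec.zpow_right k).eq]
  obtain ⟨k, k1, k2⟩ : ∃ k : ℤ, d' * s * d'⁻¹ = s * x ^ (2 * k) ∧ d' * e * d'⁻¹ = e * c ^ k := by
    rcases md hd' with ⟨k, rfl⟩ | ⟨_, ⟨k, rfl⟩, rfl⟩
    · refine ⟨-k, by rw [dc ⟨k, rfl⟩]; group, ?_⟩
      rw [xe, ← mul_one (c ^ (-k)), ← c2 k]; group
    · refine ⟨k, ?_, ?_⟩
      · calc _ = s * (x ^ k * s * (x ^ k)⁻¹) * s⁻¹ := by group
          _ = s * (s * (x ^ k * x ^ k)⁻¹ * s⁻¹) := by rw [dc ⟨k, rfl⟩]; group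
          _ = _ := by rw [di (inv_mem (mul_mem ⟨k, rfl⟩ ⟨k, rfl⟩))]; group
      · calc _ = s * (x ^ k * e * (x ^ k)⁻¹) * s⁻¹ := by group
          _ = _ := by rw [xe, cj, ← mul_inv_eq_iff_eq_mul.1 es, mul_inv_cancel_right,
            (Commute.zpow_right cs k).eq, mul_inv_cancel_right]
  replace bx : b * x * b⁻¹ = x ^ (2 * k - 1) := by rw [bx, k1, ← mul_assoc, xs]; group
  have up : ∀ g ∈ P, u * g * u⁻¹ = g := fun g hg => of_c1 (GW.mem_c1_symm (h.hP.le hg))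
  have act : ∀ g ∈ P, b * e * b⁻¹ * g * (b * e * b⁻¹)⁻¹ = d * (e * g * e⁻¹) * d⁻¹ := fun g hg => by
    nth_rw 2 [← up g hg]
    rw [← e1]; group
  have dx : d * x ^ (2 * k - 1) * d⁻¹ = x ^ (2 * k - 1) := by
    have := act _ (xP ⟨2 * k - 1, rfl⟩)
    simp only at this
    rw [exk, show c ^ (2 * k - 1) = c ^ (2 * (k - 1)) * c by group, c2, one_mul, cj d,
      of_c1 (Pc dP), ← bx, show b * e * b⁻¹ * (b * x * b⁻¹) * (b * e * b⁻¹)⁻¹ =
        b * (e * x * e⁻¹) * b⁻¹ by group, ex, cj, of_c1 (h.Sc.1 h.bS), mul_left_inj] at this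
    rw [← bx, ← this]
  rcases md hd with ⟨j, rfl⟩ | ⟨_, ⟨j, rfl⟩, rfl⟩
  · have e4 := act s' s'P
    rw [e's', es', cj, dc' ⟨j, rfl⟩, of_c1 (Pc dP), mul_assoc, left_eq_mul, inv_mul_eq_one] at e4
    rw [← e1, cj, cj, bu, ← e1, k2, ← conj_zpow, bx] at be'
    have e5 : (x ^ (2 * k - 1)) ^ j * x ^ j = c ^ k := by rw [← e4]; group
    refine h.c1 (mul_left_cancel (a := c ^ k * e) ?_)
    calc _ = (x ^ (2 * k - 1)) ^ j * (x ^ j * (e * (u * c * u⁻¹) * (u * u))) := by rw [← e5, up c h.cP.1, uu]; group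
      _ = _ := by rw [mul_one, ← (ec.zpow_right k).eq, ← be']; group
  · refine hxx (conj_eq_one_iff.1 (?_ : b * (x * x) * b⁻¹ = 1))
    rw [cj, bx]
    nth_rw 1 [← dx]
    calc _ = s * x ^ (2 * k - 1) * s⁻¹ * x ^ (2 * k - 1) := by group
      _ = 1 := by rw [di ⟨_, rfl⟩, inv_mul_cancel]

theorem false : False := by
  have SD : S ≤ closure (insert b (closure {s, b * s * b⁻¹} ∪ C)) := fun x hx => by
    have : P ≤ closure (insert b (closure {s, b * s * b⁻¹} ∪ C)) := h.PK.trans (sup_le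
      (fun x hx => subset_closure (Or.inr (Or.inl hx))) fun x hx => subset_closure (Or.inr (Or.inr hx)))
    by_cases e : x ∈ P
    · exact this e
    · exact (mul_mem_cancel_left (Subgroup.subset_closure (Set.mem_insert b _))).1
        (this (h.mul_P ⟨h.bS, h.bN⟩ ⟨hx, h.SN hx⟩ h.bP e))
  have hn : insert b (closure {s, b * s * b⁻¹} ∪ C : Set G) ⊆ N[closure {s, b * s * b⁻¹}] := by
    rintro x (e | e | e)
    exacts [e ▸ h.bD, le_normalizer e, h.CD e]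
  have k : ∀ x ∈ closure {s, b * s * b⁻¹}, ∀ y ∈ N[closure {s, b * s * b⁻¹}],
      ⁅x, y⁆ ∈ closure {s, b * s * b⁻¹} := fun x hx y hy => by
    simpa [commutatorElement_def, mul_assoc] using mul_mem hx (conj_mem_of_mem_normalizer hy (inv_mem hx))
  refine h.uD (mem_of_extremal h.perf ?_ ((commutator_mono SD SD).trans (GW.commutator_closure_le hn ?_))
    h.hP.isPGroup h.hu.mul_self h.uP.1 h.hP.le (h.PS h.uP.1) fun g hg => ?_)
  · rw [← relIndex_top_right]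
    exact Nat.odd_iff.2 (Nat.two_dvd_ne_zero.1 h.hS.not_dvd_relIndex)
  · rintro x (e | e | e) y hy
    · rcases hy with e' | e' | e'
      · simp [e, e']
      · rw [← inv_mem_iff, commutatorElement_inv]; exact k y e' x (e ▸ h.bD)
      · exact e ▸ h.comm_b e'
    · exact k x e y (hn hy)
    rcases hy with e' | e' | e'
    · rw [← inv_mem_iff, commutatorElement_inv]; exact e' ▸ h.comm_b e
    · rw [← inv_mem_iff, commutatorElement_inv]; exact k y e' x (h.CD e)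
    · rw [commutatorElement_eq_one_iff_mul_comm.2 (h.hC e' x e)]; exact one_mem _
  · rcases h.extremal (hg.trans (le_inf le_rfl h.SN)) with e | e <;> rw [e]
    · simp
    · rw [← GW.mem_c1.1 (h.Sc.1 (h.PS h.uP.1)), inv_mul_cancel_left]; exact h.cD

end Cy

theorem Ctx.not_cyc [Finite G] {R Q C : Subgroup G} {c s t ρ u : G} (h : Ctx R Q C c s t ρ) (hC : C ≤ C[C])
    (uC : u ∈ C) (hu : IsInv u) (h1 : ∀ f ∈ C, f * f = 1 → f = 1 ∨ f = u)
    (h2 : ∀ f ∈ C, f * f = 1 ∨ (f * f = u ∧ Nat.card C = 4)) : False := by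
  obtain ⟨P, hP, RP⟩ := exists_isSylowIn_ge h.pg
    (GW.le_c1_iff.2 (le_centralizer_iff.1 (h.RC hC) uC))
  obtain ⟨S, hS, PS⟩ := exists_isSylowIn_ge hP.isPGroup le_top
  have lt : P < S := PS.lt_of_ne fun e =>
    h.not_tc uC (hS.isPGroup.to_le (h.mx S hS u hu.ne_one (e ▸ hP.le)))
  obtain ⟨b, hb, hb'⟩ := SetLike.exists_of_lt (pg_lt_inf_normalizer hS.isPGroup lt)
  refine Cy.false ⟨h, hC, uC, hu, h1, fun f hf => (h2 f hf).imp_right (And.imp_right fun e => ?_), hP, hS,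
    RP, PS, hb.1, hb.2, hb'⟩
  rcases RP.eq_or_lt with e' | e'
  · exact e' ▸ le_normalizer
  have := pg_mul_card_le_of_lt hS.isPGroup lt
  have := pg_mul_card_le_of_lt hP.isPGroup e'
  have := h.cardR
  have := h.syl S hS
  exact norm_of_two RP (relIndex_two_of_card RP (by omega))

end Cfsg.Lib.Len8
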