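import Cfsg.Agent.Lib.Len8.Cyc
import Cfsg.Agent.Lib.FT.GW.Cor

/-!
# Simple groups of length 8 with Sylow 2-subgroups of order 128
-/

set_option autoImplicit false

namespace Cfsg.Lib.Len8
open Subgroup Cfsg.Lib Cfsg.Lib.FT Cfsg.Lib.Bender

variable {G : Type*} [Group G]

/-- `H` contains a chain of length `n` -/
def Len (H : Subgroup G) (n : ℕ) : Prop := ∃ c : Fin (n + 1) → Subgroup G, StrictAnti c ∧ c 0 ≤ H

theorem Len.succ {H K : Subgroup G} {n : ℕ} (h : Len H n) (hlt : H < K) : Len K (n + 1) :=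
  h.elim fun _ hc => ⟨_, hc.1.vecCons (hc.2.trans_lt hlt), le_rfl⟩

theorem len_of_dvd [Finite G] {n : ℕ} {H : Subgroup G} (h : 2 ^ n ∣ Nat.card H) : Len H n := by
  induction n generalizing H with
  | zero => exact ⟨fun _ => ⊥, fun a b e => absurd (Fin.ext (by omega) : a = b) e.ne, bot_le⟩
  | succ n ih =>
    obtain ⟨K, hK⟩ := Sylow.exists_subgroup_card_pow_prime 2 ((pow_dvd_pow 2 n.le_succ).trans h)
    rw [← card_map_of_injective H.subtype_injective] at hK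
    refine (ih hK.symm.dvd).succ ((map_subtype_le K).lt_of_ne fun e => ?_)
    rw [← e, hK, Nat.pow_dvd_pow_iff_le_right one_lt_two] at h
    omega

/-- a subgroup of characteristic 2 that is not a 2-group -/
def Good (K : Subgroup G) : Prop :=
  ¬ IsPGroup 2 K ∧ ∃ X : Subgroup G, IsPGroup 2 X ∧ X ≤ K ∧ K ≤ N[X] ∧ C[X] ≤ X

theorem good_of {X : Subgroup G} (hX : IsPGroup 2 X) {z : G} (hz : z ∈ X) (hc : Tc z)
    (h : ¬ IsPGroup 2 N[X]) : Good N[X] :=
  ⟨h, X ⊔ C[X], hX.to_sup_of_normal_left' (hc.to_le (centralizer_le (Set.singleton_subset_iff.2 hz)))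
    (centralizer_le_normalizer _), sup_le le_normalizer (centralizer_le_normalizer _),
    le_normalizer_sup le_rfl (normalizer_le_normalizer_centralizer _),
    (centralizer_le (le_sup_left : X ≤ _)).trans le_sup_right⟩

variable [Finite G] [IsSimpleGroup G]

theorem c1_le (hG : ¬ IsMulCommutative G) (h9 : ¬ Len (⊤ : Subgroup G) 9) {S : Subgroup G}
    (hS : Nat.card S = 128) {z : G} (hz : z ≠ 1) (h : S ≤ C1[z]) : C1[z] ≤ S := by
  by_contra e
  refine h9 (((len_of_dvd (n := 7) hS.symm.dvd).succ (lt_of_le_not_ge h e)).succ (lt_top_iff_ne_top.2 fun e => ?_))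
  rcases (inferInstance : (center G).Normal).eq_bot_or_eq_top with e' | e'
  · exact hz (e'.le (mem_center_iff.2 fun g => GW.mem_c1.1 (e.ge (mem_top g))))
  · exact hG ⟨⟨fun a b => mem_center_iff.1 (e'.ge (mem_top b)) a⟩⟩

theorem dih2 (hG : ¬ IsMulCommutative G) (h9 : ¬ Len (⊤ : Subgroup G) 9)
    (syl : ∀ S : Subgroup G, IsSylowIn 2 S ⊤ → Nat.card S = 128) : GW.Dih2 G := by
  have cen : ∀ S : Subgroup G, IsSylowIn 2 S ⊤ → ∃ z ∈ S, IsInv z ∧ S ≤ C1[z] ∧ C1[z] ≤ S := fun S hS => by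
    obtain ⟨z, h0, h1, h2⟩ := pg_exists_fixed_of_order_p hS.isPGroup hS.isPGroup le_normalizer
      fun e => by simpa [e] using syl S hS
    have h3 := isInv_iff_orderOf.2 h1
    exact ⟨z, h0, h3, GW.le_c1_iff.2 h2, c1_le hG h9 (syl S hS) h3.ne_one (GW.le_c1_iff.2 h2)⟩
  obtain ⟨R, ⟨K, ⟨hK, X, hX, XK, KX, CX⟩, hR⟩, hmax⟩ := Set.exists_max_image
    {R : Subgroup G | ∃ K, Good K ∧ IsSylowIn 2 R K} (fun R => Nat.card R) (Set.toFinite _) (by
      by_contra hc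
      obtain ⟨T⟩ : Nonempty (Sylow 2 G) := inferInstance
      have hT := IsSylowIn.of_sylow_top T
      obtain ⟨z, h0, -, h1, h2⟩ := cen _ hT
      refine sm_not_hasNormalPComplement hG ((show 2 ∣ _ by rw [syl _ hT]; norm_num).trans
        (card_subgroup_dvd_card (T : Subgroup G))) (frobenius_normal_complement T fun Q hQ _ _ hC g hg => ?_)
      obtain ⟨j, hj⟩ := (by_contra fun e => (exists_isSylowIn 2 N[Q]).elim fun R hR =>
        hc ⟨R, _, good_of (T.isPGroup'.to_le hQ) (hC ⟨h0, GW.le_c1_iff.1 (hQ.trans h1)⟩)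
          (T.isPGroup'.to_le h2) e, hR⟩ : IsPGroup 2 N[Q]) ⟨g, hg⟩
      exact ⟨j, (show g ^ 2 ^ j = 1 from congrArg Subtype.val hj) ▸ one_mem _⟩)
  obtain ⟨M, ⟨RM, MK⟩, hmin⟩ := (Set.toFinite {M | R < M ∧ M ≤ K}).exists_minimal
    ⟨K, hR.le.lt_of_ne fun e => hK (e ▸ hR.isPGroup), le_rfl⟩
  have hRM := hR.mono RM.le MK
  have hM : ¬ IsPGroup 2 M := fun e => RM.ne' (hRM.maximal M e le_rfl RM.le)
  have nm : ∀ Y : Subgroup G, IsPGroup 2 Y → ∀ z ∈ Y, Tc z → M ≤ N[Y] → ∀ P : Subgroup G, IsPGroup 2 P →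
      R ≤ P → P ⊓ N[Y] ≤ R := fun Y hY z hz hc hn P hP hle => by
    obtain ⟨P', hP', e⟩ := exists_isSylowIn_ge hP.to_inf_left (inf_le_right : P ⊓ N[Y] ≤ _)
    exact e.trans (eq_of_le_of_card_ge ((le_inf hle (RM.le.trans hn)).trans e)
      (hmax P' ⟨_, good_of hY hz hc fun e => hM (e.to_le hn), hP'⟩)).ge
  set Q := piCoreOf {2} M
  have QR : Q ≤ R := piCoreOf_le_isSylowIn hRM
  have core : ∀ Y ≤ R, M ≤ N[Y] → Y ≤ Q := fun Y h1 h2 =>
    le_piCoreOf_singleton (h1.trans RM.le) h2 (hR.isPGroup.to_le h1)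
  have XQ := core X (hR.le_of_normalizes hX XK (hR.le.trans KX)) (MK.trans KX)
  have cQ : C[Q] ≤ Q := (centralizer_le XQ).trans (CX.trans XQ)
  have nQ : M ≤ N[Q] := le_normalizer_piCoreOf _ _
  obtain ⟨S, hS, RS⟩ := exists_isSylowIn_ge hR.isPGroup le_top
  have cS := syl S hS
  obtain ⟨z, -, iz, Sz, zS⟩ := cen S hS
  have zQ : z ∈ Q := cQ (GW.le_c1_iff.1 ((QR.trans RS).trans Sz))
  have tz : Tc z := hS.isPGroup.to_le zS
  have lt : R < S := RS.lt_of_ne fun e => h9 (((len_of_dvd (n := 7) (e ▸ cS).symm.dvd).succ RM).succ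
    (nQ.trans_lt (lt_top_iff_ne_top.2 (sm_normalizer_pgroup_ne_top hG (hR.isPGroup.to_le QR)
      fun e => iz.ne_one (e.le zQ)))))
  obtain ⟨P, RP, PS, cP⟩ := exists_two hS.isPGroup lt
  have i2 := relIndex_two_of_card RP cP
  obtain ⟨a, ha, ha'⟩ := SetLike.not_le_iff_exists.1 fun e : P ≤ R => by
    have := card_le_of_le e
    have := Nat.card_pos (α := R)
    omega
  have aN := norm_of_two RP i2 ha
  have h : Am M R Q a z := ⟨hR.isPGroup, RM.le, QR, nQ, fun L h1 h2 => (h1.eq_or_lt.imp Eq.symm fun e =>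
      h2.antisymm (hmin ⟨e, h2.trans MK⟩ h2)), core, inf_le_right.trans cQ, fun e => ha'
      (nm Q (hR.isPGroup.to_le QR) z zQ tz nQ S hS.isPGroup RS ⟨PS ha, QR.antisymm e ▸ aN⟩), aN,
    mul_mem_of_two i2 ha ha ha' ha', iz, QR zQ, RS.trans Sz,
    (hRM.maximal _ tz.to_inf_right inf_le_left (le_inf RM.le (RS.trans Sz))).le, fun Y h1 h2 h3 h4 => ha'
      (nm (R ⊓ C[Y]) hR.isPGroup.to_inf_left z ⟨QR zQ, GW.le_c1_iff.1 ((h1.trans RS).trans Sz)⟩ tz (by
        rw [show R ⊓ C[Y] = M ⊓ C[Y] from (inf_le_inf_right _ RM.le).antisymm (le_inf h4 inf_le_right)]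
        exact le_normalizer_inf le_normalizer (h2.trans (normalizer_le_normalizer_centralizer _)))
        S hS.isPGroup RS ⟨PS ha, inf_normalizer_le_normalizer_inf
          ⟨aN, normalizer_le_normalizer_centralizer _ h3⟩⟩), by
      have := card_le_of_le PS
      omega⟩
  obtain ⟨C, c, s, t, ρ, h1, -, Y, YC, MY, aY, cY⟩ := h.s4c
  have h2 : Ctx R Q C c s t ρ := ⟨h1, sm_commutator_eq_top hG, hR.isPGroup, cQ,
    fun S hS z hz => c1_le hG h9 (syl S hS) hz, syl, fun P hP e x hx hx' =>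
      nm _ (hR.isPGroup.to_le ((om_le Q).trans QR)) z h.zV tz h.nV P hP e ⟨hx, hx'⟩⟩
  have CR := h1.CQ.trans QR
  obtain ⟨k, hk⟩ := (hR.isPGroup.to_le CR).exists_card_eq
  have h4 : Nat.card C ∣ 4 := by
    by_contra e
    have e' : 8 ∣ Nat.card C := hk ▸ pow_dvd_pow 2 (show 3 ≤ k from not_le.1 fun e' =>
      e (hk ▸ pow_dvd_pow 2 e'))
    refine h9 ((((len_of_dvd (n := 6) (by have := h2.cardR; omega)).succ RM).succ
      (MY.lt_of_ne fun e => ha' (h.norm (e.ge aY) aN))).succ (lt_top_iff_ne_top.2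
      (sm_normalizer_pgroup_ne_top hG (hR.isPGroup.to_le (YC.trans CR)) fun e => ?_)))
    have := Nat.le_of_dvd Nat.card_pos e'
    rw [e, card_bot] at cY
    omega
  have hC : C ≤ C[C] := fun x hx y hy => congrArg Subtype.val (comm_of_card_dvd_four h4 ⟨y, hy⟩ ⟨x, hx⟩)
  refine h2.dih2 (by_contra fun e => ?_)
  obtain ⟨u, uC, hu, -⟩ := pg_exists_fixed_of_order_p (hR.isPGroup.to_le CR) .of_bot bot_le e
  replace hu := isInv_iff_orderOf.2 hu
  have two : ∀ f ∈ C, f ≠ 1 → f ≠ u → Nat.card C = 4 := fun f hf f1 fu => by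
    have e1 : zpowers u < C := (zpowers_le.2 uC).lt_of_ne fun e =>
      ((GW.mem_zpowers_two hu.mul_self).1 (e.ge hf)).elim f1 fu
    have := pg_mul_card_le_of_lt (hR.isPGroup.to_le CR) e1
    rw [hu.card_zpowers] at this
    exact (Nat.le_of_dvd (by norm_num) h4).antisymm this
  by_cases h5 : ∀ f ∈ C, f * f = 1 → f = 1 ∨ f = u
  · refine h2.not_cyc hC uC hu h5 fun f hf => or_iff_not_imp_left.2 fun ff =>
      ⟨(h5 _ (mul_mem hf hf) ?_).resolve_left ff, two f hf (fun e => ff (by simp [e])) fun e => ff (e ▸ hu.mul_self)⟩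
    simpa [pow_succ, mul_assoc] using orderOf_dvd_iff_pow_eq_one.1 ((C.orderOf_dvd_natCard hf).trans h4)
  push Not at h5
  obtain ⟨v, hv, vv, v1, vu⟩ := h5
  have uv : u * v ≠ 1 := fun e => vu (by rw [eq_inv_of_mul_eq_one_right e, hu.inv_eq])
  have hf : GW.Four u v := ⟨hu.orderOf_eq, (IsInv.orderOf_eq ⟨v1, vv⟩), vu, hC uC v hv⟩
  have := eq_of_le_of_card_ge (GW.four_le_iff.2 ⟨uC, hv⟩) (by rw [hf.card, two v hv v1 vu])
  exact h2.not_four hC (fun f hf' => hf.mul_self (this.ge hf')) (two v hv v1 vu) uC hv hu.ne_one v1 uv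

open GW GW.L2 Matrix in
theorem main (hG : ¬ IsMulCommutative G) (h9 : ∀ c : Fin 10 → Subgroup G, ¬ StrictAnti c) (S : Sylow 2 G)
    (hS : Nat.card (S : Subgroup G) = 2 ^ 7) : ∃ (F : Type) (_ : Field F) (_ : Fintype F),
      Fintype.card F = 127 ∧ Nonempty (G ≃* Matrix.ProjectiveSpecialLinearGroup (Fin 2) F) := by
  have h9 : ¬ Len (⊤ : Subgroup G) 9 := fun ⟨c, hc, _⟩ => h9 c hc
  have hd := dih2 hG h9 fun T hT => (hT.card_eq_card (.of_sylow_top S)).trans hS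
  rcases gorenstein_walter G hG hd with hL | ⟨⟨e⟩⟩
  swap
  · have := card_subgroup_dvd_card (S : Subgroup G)
    rw [hS, Nat.card_congr e.toEquiv, card_a7] at this
    omega
  obtain ⟨z, -, hz, h1⟩ := pg_exists_fixed_of_order_p S.isPGroup' S.isPGroup' le_normalizer
    fun e => by simp [e] at hS
  have hc : Nat.card C1[z] = 128 := by
    rw [(c1_le hG h9 hS (isInv_iff_orderOf.2 hz).ne_one (le_c1_iff.2 h1)).antisymm (le_c1_iff.2 h1), hS]
    rfl
  obtain ⟨K, _, _, h3, ⟨m⟩⟩ := exists_mod (L := ⊤) ⟨hd, inferInstance, by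
    rw [coe_top, centralizer_univ]
    exact (inferInstance : (center G).Normal).eq_bot_or_eq_top.resolve_right fun e =>
      hG ⟨⟨fun a b => mem_center_iff.1 (e.ge (mem_top b)) a⟩⟩⟩ (hL.of_equiv topEquiv.symm)
  obtain ⟨T, rfl⟩ := m.mem_L.1 (mem_top z)
  have hT := (m.rep_π T).trace_eq hz
  have hk := Mod.ncard_cinvs (m := m) hT
  have c2 := card_tor_cases m.two hT (det_sl T)
  have d2 := m.ker.card_map m.two (neg_one_mem_tor (T : Matrix (Fin 2) (Fin 2) K))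
  have d1 := m.ker.card_map m.two (X := ⊤) (mem_top _)
  have := Fintype.ofFinite K
  rw [← MonoidHom.range_eq_map, m.range, card_top, card_top, h9_card_sl2] at d1
  have e1 := card_dvd_of_le ((m.rep_π T).map_tor_le.trans inf_le_right)
  have e2 : (cinvs ⊤ (m.π T)).ncard < Nat.card C1[m.π T] := by
    rw [← SetLike.coe_sort_coe, Nat.card_coe_set_eq]
    exact Set.ncard_lt_ncard ⟨fun y hy => mem_c1.2 hy.2.2.2, fun e => (e (self_mem_c1 _)).2.2.1 rfl⟩
  have e3 : Nat.card C1[m.π T] ≤ 2 * (cinvs ⊤ (m.π T)).ncard := by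
    rw [two_mul]
    nth_rw 1 [hk]
    rw [← SetLike.coe_sort_coe, Nat.card_coe_set_eq, ← SetLike.coe_sort_coe, Nat.card_coe_set_eq]
    refine le_trans (Set.ncard_le_ncard ?_) (Set.ncard_union_le _ _)
    intro y h2
    by_cases ho : orderOf y = 2
    · by_cases hy : y = m.π T
      · exact Or.inl ⟨T, rfl, hy.symm⟩
      · exact Or.inr ⟨trivial, ho, hy, mem_c1.1 h2⟩
    · exact Or.inl ((m.rep_π T).mem_map_tor trivial (mem_c1.1 h2) ho)
  rw [← hk] at d2 e1
  rw [hc] at e1 e2 e3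
  have e4 : (cinvs ⊤ (m.π T)).ncard = 64 := by
    obtain ⟨j, hj⟩ := e1
    generalize (cinvs ⊤ (m.π T)).ncard = k at *
    obtain _ | _ | _ | j := j <;> nlinarith
  have e5 : Fintype.card K = 127 := by
    obtain ⟨p, -, n, hp, hn⟩ := FiniteField.card' K
    rw [← Nat.card_eq_fintype_card] at hn ⊢
    by_contra e
    rw [show Nat.card K = 129 by omega] at hn
    have := (Nat.prime_dvd_prime_iff_eq Nat.prime_three hp).1 
      (Nat.prime_three.dvd_of_dvd_pow (n := n) (by rw [← hn]; norm_num))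
    have := (Nat.prime_dvd_prime_iff_eq (by norm_num : Nat.Prime 43) hp).1
      ((by norm_num : Nat.Prime 43).dvd_of_dvd_pow (n := n) (by rw [← hn]; norm_num))
    omega
  obtain ⟨F, _, _, ho, -, ⟨e⟩⟩ := hL
  refine ⟨F, inferInstance, inferInstance, ?_, ⟨e⟩⟩
  have := two_mul_card_psl2 ho
  rw [← Nat.card_congr e.toEquiv, d1, e5] at this
  generalize Fintype.card F = q at *
  rcases lt_trichotomy q 127 with e | e | e
  · have : q * (q ^ 2 - 1) ≤ 126 * (126 ^ 2 - 1) := by gcongr <;> omega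
    omega
  · exact e
  · have : 128 * (128 ^ 2 - 1) ≤ q * (q ^ 2 - 1) := by gcongr <;> omega
    omega

end Cfsg.Lib.Len8
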